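import Cfsg.Agent.S4445
import Cfsg.Agent.H395.Jordan
import Cfsg.Agent.H690.Van

/-!
# Characters moved by coprime automorphisms (helper620)

* `exists_moved`: a nontrivial automorphism of order prime to `|S|` moves an irreducible
  character;
* `exists_regular`: a cyclic `p`-group of automorphisms, `p ∤ |S|`, has a regular orbit on `Irr S`.
-/

set_option autoImplicit false

namespace Cfsg.Agent.H620.PN

open Cfsg Cfsg.Agent.Characters

universe u

/-- A nontrivial automorphism of order prime to the order of the group moves an irreducible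
character. -/
theorem exists_moved {S : Type u} [Group S] [Finite S] (σ : MulAut S) (hσ : σ ≠ 1)
    (hcop : (Nat.card S).Coprime (orderOf σ)) :
    ∃ χ : IrrCharacter S, ∃ x : S, (χ : S → ℂ) (σ x) ≠ (χ : S → ℂ) x := by
  classical
  by_contra hcon
  push Not at hcon
  have hall : ∀ τ ∈ Subgroup.zpowers σ, ∀ (χ : IrrCharacter S) (x : S),
      (χ : S → ℂ) (τ x) = (χ : S → ℂ) x := by
    let H : Subgroup (MulAut S) :=
      { carrier := {τ | ∀ (χ : IrrCharacter S) (x : S), (χ : S → ℂ) (τ x) = (χ : S → ℂ) x}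
        mul_mem' := by
          intro a b ha hb χ x
          rw [MulAut.mul_apply, ha, hb]
        one_mem' := fun χ x => rfl
        inv_mem' := by
          intro a ha χ x
          rw [← ha χ (a⁻¹ x), MulAut.apply_inv_self] }
    have h1 : Subgroup.zpowers σ ≤ H := by
      rw [Subgroup.zpowers_le]
      exact hcon
    intro τ hτ
    exact h1 hτ
  let φ : Subgroup.zpowers σ →* MulAut S := (Subgroup.zpowers σ).subtype
  let Γ := S ⋊[φ] (Subgroup.zpowers σ)
  have : Finite Γ := Finite.of_equiv _ SemidirectProduct.equivProd.symm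
  have : Fintype Γ := Fintype.ofFinite Γ
  let A : Subgroup Γ := (SemidirectProduct.inr : Subgroup.zpowers σ →* Γ).range
  let N : Subgroup Γ := (SemidirectProduct.inl : S →* Γ).range
  have : Fintype N := Fintype.ofFinite N
  let e : S ≃* N := MonoidHom.ofInjective SemidirectProduct.inl_injective
  let f : Subgroup.zpowers σ ≃* A := MonoidHom.ofInjective SemidirectProduct.inr_injective
  have hconj : ∀ (τ : Subgroup.zpowers σ) (x : S),
      (SemidirectProduct.inr τ : Γ) * SemidirectProduct.inl x * (SemidirectProduct.inr τ)⁻¹ =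
        SemidirectProduct.inl ((τ : MulAut S) x) := by
    intro τ x
    rw [← map_inv, ← SemidirectProduct.inl_aut]
    rfl
  have hnorm : ∀ s ∈ A, ∀ g ∈ N, s * g * s⁻¹ ∈ N := by
    rintro _ ⟨τ, rfl⟩ _ ⟨x, rfl⟩
    rw [hconj]
    exact ⟨_, rfl⟩
  have hcopNA : (Nat.card N).Coprime (Nat.card A) := by
    rw [← Nat.card_congr e.toEquiv, ← Nat.card_congr f.toEquiv, Nat.card_zpowers]
    exact hcop
  have hsolv : Group.IsSolvable A := by
    apply Group.isSolvable_of_comm
    rintro ⟨_, a, rfl⟩ ⟨_, b, rfl⟩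
    apply Subtype.ext
    show (SemidirectProduct.inr a : Γ) * SemidirectProduct.inr b =
      SemidirectProduct.inr b * SemidirectProduct.inr a
    rw [← map_mul, ← map_mul, show a * b = b * a from mul_comm' a b]
  have hcount := Cfsg.Agent.S4445.result N A hnorm hcopNA hsolv
  have hirrinv : ∀ χ : IrrCharacter N, ∀ s ∈ A, ∀ g g' : N, (g' : Γ) = s * g * s⁻¹ →
      (χ : N → ℂ) g' = (χ : N → ℂ) g := by
    rintro χ _ ⟨τ, rfl⟩ ⟨_, x, rfl⟩ g' hg'
    rw [hconj] at hg'
    let χ' : IrrCharacter S := ⟨(χ : N → ℂ) ∘ e, Core.isIrr_comp (e : S →* N) e.surjective χ.2⟩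
    have h1 := hall τ τ.2 χ' x
    have h2 : g' = e ((τ : MulAut S) x) := Subtype.ext hg'
    rw [h2]
    exact h1
  have := Core.finite_irr (G := N)
  have h1 : Nat.card {χ : IrrCharacter N // ∀ s ∈ A, ∀ g g' : N, (g' : Γ) = s * g * s⁻¹ →
      (χ : N → ℂ) g' = (χ : N → ℂ) g} = Nat.card (IrrCharacter N) :=
    Nat.card_congr (Equiv.subtypeUnivEquiv hirrinv)
  rw [h1, Core.card_irr] at hcount
  have hclass : ∀ K : ConjClasses N, ∀ s ∈ A, ∀ g g' : N, (g' : Γ) = s * g * s⁻¹ →
      ConjClasses.mk g = K → ConjClasses.mk g' = K := by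
    by_contra hne
    push Not at hne
    obtain ⟨K, hK⟩ := hne
    have h2 : Nat.card {K : ConjClasses N // ∀ s ∈ A, ∀ g g' : N, (g' : Γ) = s * g * s⁻¹ →
        ConjClasses.mk g = K → ConjClasses.mk g' = K} < Nat.card (ConjClasses N) := by
      have : Fintype (ConjClasses N) := Fintype.ofFinite _
      rw [Nat.card_eq_fintype_card, Nat.card_eq_fintype_card]
      apply Fintype.card_subtype_lt (x := K)
      intro h
      obtain ⟨s, hs, g, g', h3, h4, h5⟩ := hK
      exact h5 (h s hs g g' h3 h4)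
    omega
  -- the fixed points cover the group
  let C : Subgroup S :=
    { carrier := {x | σ x = x}
      mul_mem' := fun {a b} ha hb => by
        show σ (a * b) = a * b
        rw [map_mul, show σ a = a from ha, show σ b = b from hb]
      one_mem' := map_one σ
      inv_mem' := fun {a} ha => by
        show σ a⁻¹ = a⁻¹
        rw [map_inv, show σ a = a from ha] }
  have hC : C ≠ ⊤ := by
    intro h
    apply hσ
    ext x
    have : x ∈ C := by rw [h]; trivial
    exact this
  obtain ⟨x, hx⟩ := Cfsg.Agent.H395.Jordan.exists_not_conj_mem hC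
  obtain ⟨k, hk, hk2⟩ := Cfsg.Agent.H594.ClassCount.exists_mem_C (G := N) (S := A) hnorm hcopNA
    (Or.inl hsolv) (e x : Γ) (by
      intro s hs
      have h3 := hclass (ConjClasses.mk (e x)) s hs (e x) ⟨s * e x * s⁻¹, hnorm s hs _ (e x).2⟩
        rfl rfl
      rw [ConjClasses.mk_eq_mk_iff_isConj, isConj_comm, isConj_iff] at h3
      obtain ⟨c, hc⟩ := h3
      exact ⟨c, c.2, (congrArg Subtype.val hc).symm⟩)
  obtain ⟨y, rfl⟩ := hk
  apply hx y⁻¹
  show σ (y⁻¹⁻¹ * x * y⁻¹) = y⁻¹⁻¹ * x * y⁻¹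
  have h4 := hk2 (SemidirectProduct.inr ⟨σ, Subgroup.mem_zpowers σ⟩) ⟨_, rfl⟩
  have h5 : (SemidirectProduct.inl y : Γ) * (e x : Γ) * (SemidirectProduct.inl y)⁻¹ =
      SemidirectProduct.inl (y * x * y⁻¹) := by
    rw [map_mul, map_mul, map_inv]
    rfl
  rw [h5, hconj] at h4
  have h6 := SemidirectProduct.inl_injective h4
  rw [inv_inv]
  exact h6

/-- A cyclic `p`-group of automorphisms, `p` prime to the order of the group, has a regular orbit
on the irreducible characters. -/
theorem exists_regular {S : Type u} [Group S] [Finite S] [Nontrivial S] (p : ℕ) [hp : Fact p.Prime]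
    (hpS : ¬ p ∣ Nat.card S) (B : Subgroup (MulAut S)) [hcyc : IsCyclic B] (hB : IsPGroup p B) :
    ∃ χ : IrrCharacter S, (∃ x, (χ : S → ℂ) x ≠ (χ : S → ℂ) 1) ∧
      ∀ b ∈ B, (∀ x, (χ : S → ℂ) (b x) = (χ : S → ℂ) x) → b = 1 := by
  classical
  by_cases hb : B = ⊥
  · obtain ⟨z, hz⟩ := exists_ne (1 : S)
    obtain ⟨χ, hχ⟩ := Cfsg.Agent.H690.Van.exists_ne hz
    refine ⟨χ, ⟨z, hχ⟩, fun b hb' _ => ?_⟩
    rw [hb] at hb'
    exact Subgroup.mem_bot.1 hb'
  have hnt : Nontrivial B := (Subgroup.nontrivial_iff_ne_bot B).2 hb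
  obtain ⟨g, hg⟩ := hcyc.exists_generator
  obtain ⟨n, hn⟩ := IsPGroup.iff_orderOf.1 hB g
  have hn0 : n ≠ 0 := by
    rintro rfl
    rw [pow_zero, orderOf_eq_one_iff] at hn
    obtain ⟨y, hy⟩ := exists_ne (1 : B)
    apply hy
    have := hg y
    rw [hn, Subgroup.zpowers_one_eq_bot, Subgroup.mem_bot] at this
    exact this
  obtain ⟨k, rfl⟩ := Nat.exists_eq_succ_of_ne_zero hn0
  set σ : B := g ^ p ^ k with hσdef
  have hσo : orderOf σ = p := by
    rw [hσdef, orderOf_pow, hn, Nat.gcd_eq_right (pow_dvd_pow p (Nat.le_succ k)), Nat.succ_eq_add_one,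
      pow_succ, Nat.mul_div_cancel_left _ (pow_pos hp.out.pos k)]
  have hσ1 : (σ : MulAut S) ≠ 1 := by
    intro h
    have h1 : σ = 1 := Subtype.ext h
    rw [h1, orderOf_one] at hσo
    exact hp.out.one_lt.ne hσo
  obtain ⟨χ, x, hx⟩ := exists_moved (σ : MulAut S) hσ1 (by
    rw [Subgroup.orderOf_coe, hσo]
    exact ((Nat.Prime.coprime_iff_not_dvd hp.out).2 hpS).symm)
  refine ⟨χ, ?_, ?_⟩
  · by_contra hcon
    push Not at hcon
    exact hx ((hcon _).trans (hcon _).symm)
  · intro b hbB hbχ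
    by_contra hb1
    -- `σ` is a power of `b`
    obtain ⟨j, hj⟩ := Subgroup.mem_zpowers_iff.1 (hg ⟨b, hbB⟩)
    obtain ⟨m, hm⟩ := IsPGroup.iff_orderOf.1 hB ⟨b, hbB⟩
    have hm0 : m ≠ 0 := by
      rintro rfl
      rw [pow_zero, orderOf_eq_one_iff] at hm
      exact hb1 (congrArg Subtype.val hm)
    obtain ⟨l, rfl⟩ := Nat.exists_eq_succ_of_ne_zero hm0
    have hbo : orderOf ((⟨b, hbB⟩ : B) ^ p ^ l) = p := by
      rw [orderOf_pow, hm, Nat.gcd_eq_right (pow_dvd_pow p (Nat.le_succ l)), Nat.succ_eq_add_one,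
        pow_succ, Nat.mul_div_cancel_left _ (pow_pos hp.out.pos l)]
    have h2 : σ ∈ Subgroup.zpowers ((⟨b, hbB⟩ : B) ^ p ^ l) := by
      have : Fintype B := Fintype.ofFinite B
      set c : B := (⟨b, hbB⟩ : B) ^ p ^ l with hc
      let F : Finset B := Finset.univ.filter fun x => x ^ p = 1
      let E : Finset B := Finset.univ.filter fun x => x ∈ Subgroup.zpowers c
      have hEF : E ⊆ F := by
        intro x hx
        rw [Finset.mem_filter] at hx ⊢
        refine ⟨Finset.mem_univ _, ?_⟩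
        obtain ⟨i, rfl⟩ := Subgroup.mem_zpowers_iff.1 hx.2
        rw [← zpow_natCast, ← zpow_mul, mul_comm, zpow_mul, zpow_natCast, ← hbo, pow_orderOf_eq_one,
          one_zpow]
      have hE : E.card = p := by
        rw [← hbo, ← Nat.card_zpowers, Nat.card_eq_fintype_card, ← Fintype.card_coe]
        exact Fintype.card_congr (Equiv.subtypeEquivRight fun x => by simp [E])
      have hF : F.card ≤ p := IsCyclic.card_pow_eq_one_le hp.out.pos
      have h5 : E = F := Finset.eq_of_subset_of_card_le hEF (by omega)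
      have h6 : σ ∈ F := by
        rw [Finset.mem_filter]
        exact ⟨Finset.mem_univ _, by rw [← hσo, pow_orderOf_eq_one]⟩
      rw [← h5, Finset.mem_filter] at h6
      exact h6.2
    have h3 : σ ∈ Subgroup.zpowers (⟨b, hbB⟩ : B) :=
      (Subgroup.zpowers_le.2 (Subgroup.pow_mem _ (Subgroup.mem_zpowers _) _)) h2
    obtain ⟨i, hi⟩ := Subgroup.mem_zpowers_iff.1 h3
    have h4 : ∀ τ ∈ Subgroup.zpowers b, ∀ x, (χ : S → ℂ) (τ x) = (χ : S → ℂ) x := by
      let H : Subgroup (MulAut S) :=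
        { carrier := {τ | ∀ (x : S), (χ : S → ℂ) (τ x) = (χ : S → ℂ) x}
          mul_mem' := by
            intro a b ha hb x
            rw [MulAut.mul_apply, ha, hb]
          one_mem' := fun x => rfl
          inv_mem' := by
            intro a ha x
            rw [← ha (a⁻¹ x), MulAut.apply_inv_self] }
      have h1 : Subgroup.zpowers b ≤ H := by
        rw [Subgroup.zpowers_le]
        exact hbχ
      intro τ hτ
      exact h1 hτ
    apply hx
    apply h4
    rw [← hi]
    exact ⟨i, rfl⟩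

end Cfsg.Agent.H620.PN
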