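import Cfsg.Agent.H713.Reduce
import Cfsg.Agent.H620.PN.Moved
import Cfsg.Agent.H988.CopCyc.Base
import Cfsg.Agent.H690.RegOrb

/-!
# Regular orbits of abelian `p`-groups on the characters of minimal normal `p'`-subgroups (helper620)

* `isIrr_piDep`: outer tensor products of irreducible characters;
* `exists_theta_na`: the nonabelian case;
* `exists_theta_ab`: the abelian case.
-/

set_option autoImplicit false

namespace Cfsg.Agent.H620.PN

open Cfsg Cfsg.Agent.Characters.Core Cfsg.Agent.Characters.Clifford Subgroup Cfsg.Agent.H713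
open scoped ComplexConjugate

universe u

/-- Outer tensor products of irreducible characters are irreducible. -/
theorem isIrr_piDep {ι : Type*} [Fintype ι] {S : ι → Type*} [∀ i, Group (S i)] [∀ i, Finite (S i)]
    {θ : ∀ i, S i → ℂ} (hθ : ∀ i, IsIrrCharacter (S i) (θ i)) :
    IsIrrCharacter (∀ i, S i) (fun n => ∏ i, θ i (n i)) := by
  classical
  have := fun i => Fintype.ofFinite (S i)
  have h1 : IsCharacter (∀ i, S i) (fun n => ∏ i, θ i (n i)) := by
    have : ∀ s : Finset ι, IsCharacter (∀ i, S i) (fun n => ∏ i ∈ s, θ i (n i)) := by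
      intro s
      induction s using Finset.induction_on with
      | empty => simpa using! isCharacter_one (G := ∀ i, S i)
      | insert a s ha ih =>
        have h2 := isCharacter_mul (isCharacter_comp (Pi.evalMonoidHom (fun i : ι => S i) a)
          (isIrr_isCharacter (hθ a))) ih
        have h3 : (fun n : ∀ i, S i => ∏ i ∈ insert a s, θ i (n i)) =
          (θ a ∘ (Pi.evalMonoidHom (fun i : ι => S i) a)) * fun n => ∏ i ∈ s, θ i (n i) := by
          funext n
          simp [Finset.prod_insert ha]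
        rw [h3]
        exact h2
    exact this Finset.univ
  refine isIrr_of_classInner_self h1 ?_
  have h4 : ∀ i, ∑ s : S i, θ i s * conj (θ i s) = Nat.card (S i) := by
    intro i
    have h5 := classInner_irr_self (hθ i)
    rw [classInner_def] at h5
    have h6 : (Nat.card (S i) : ℂ) ≠ 0 := card_ne_zero_complex
    field_simp at h5
    exact h5
  rw [classInner_def]
  have h7 : ∑ n : ∀ i, S i, (∏ i, θ i (n i)) * conj (∏ i, θ i (n i)) =
      ∏ i : ι, ∑ s : S i, θ i s * conj (θ i s) := by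
    rw [Finset.prod_univ_sum, Fintype.piFinset_univ]
    refine Finset.sum_congr rfl fun n _ => ?_
    rw [map_prod, ← Finset.prod_mul_distrib]
  rw [h7, Nat.card_pi]
  simp only [h4]
  push_cast
  rw [inv_mul_cancel₀]
  exact Finset.prod_ne_zero_iff.2 fun i _ => card_ne_zero_complex

/-- The trivial character. -/
theorem isIrr_one (S : Type*) [Group S] : IsIrrCharacter S (fun _ => (1 : ℂ)) := by
  have := Cfsg.Agent.Characters.Linear.isIrrCharacter_hom (1 : S →* ℂˣ)
  simpa using! this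

/-- The nonabelian case. -/
theorem exists_theta_na {G : Type u} [Group G] [Finite G]
    (hCC : ∀ (S : Type u) [Group S] [Finite S] [IsSimpleGroup S], (∃ a b : S, a * b ≠ b * a) →
      Cfsg.Agent.H988.CopCyc.CC S)
    (N : Subgroup G) [hN : N.Normal]
    (hmin : ∀ M : Subgroup G, M.Normal → M ≤ N → M = ⊥ ∨ M = N)
    (hna : ¬ ∀ x ∈ N, ∀ y ∈ N, Commute x y) (p : ℕ) [hp : Fact p.Prime] (hpN : ¬ p ∣ Nat.card N)
    (Z : Subgroup G) (hZ : ∀ x ∈ Z, ∀ y ∈ Z, x * y = y * x) (hZp : IsPGroup p Z)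
    (hC : ∀ z ∈ Z, (∀ n ∈ N, n * z = z * n) → z = 1) :
    ∃ θ : N → ℂ, IsIrrCharacter N θ ∧
      ∀ z ∈ Z, (∀ n : N, θ (MulAut.conjNormal z n) = θ n) → z = 1 := by
  classical
  obtain ⟨m, T, e, hm, hsimple, hTna, hTinj, hTN, hTn, hconj, htrans, he, hcoord⟩ :=
    Cfsg.Agent.PermutationGroups.OnanScott.exists_coordinates N hmin hna
  -- the orbits of `Z` on the factors
  let s : Setoid (Fin m) :=
    { r := fun i j => ∃ z ∈ Z, T j = (T i).map (MulAut.conj z).toMonoidHom
      iseqv :=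
        { refl := fun i => ⟨1, Z.one_mem, by
            rw [Cfsg.Agent.Lib.MinNormal.map_conj_one]⟩
          symm := by
            rintro i j ⟨z, hz, h⟩
            refine ⟨z⁻¹, Z.inv_mem hz, ?_⟩
            rw [h, Cfsg.Agent.Lib.MinNormal.map_conj_map_conj, inv_mul_cancel,
              Cfsg.Agent.Lib.MinNormal.map_conj_one]
          trans := by
            rintro i j k ⟨z, hz, h⟩ ⟨y, hy, h'⟩
            refine ⟨y * z, Z.mul_mem hy hz, ?_⟩
            rw [h', h, Cfsg.Agent.Lib.MinNormal.map_conj_map_conj] } }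
  let r : Fin m → Fin m := fun i => (Quotient.mk s i).out
  have hr1 : ∀ i, ∃ z ∈ Z, T i = (T (r i)).map (MulAut.conj z).toMonoidHom := fun i =>
    Quotient.mk_out (s := s) i
  have hr2 : ∀ i j, (∃ z ∈ Z, T j = (T i).map (MulAut.conj z).toMonoidHom) → r i = r j := by
    intro i j h
    have h1 : Quotient.mk s i = Quotient.mk s j := Quotient.sound h
    show (Quotient.mk s i).out = (Quotient.mk s j).out
    rw [h1]
  -- the groups of automorphisms induced by `Z`
  let B : ∀ i, Subgroup (MulAut (T i)) := fun i =>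
    { carrier := {b | ∃ z ∈ Z, ∀ t : T i, ((b t : T i) : G) = z * t * z⁻¹}
      mul_mem' := by
        rintro a b ⟨x, hx, hx'⟩ ⟨y, hy, hy'⟩
        refine ⟨x * y, Z.mul_mem hx hy, fun t => ?_⟩
        rw [MulAut.mul_apply, hx', hy']
        group
      one_mem' := ⟨1, Z.one_mem, fun t => by simp⟩
      inv_mem' := by
        rintro a ⟨x, hx, hx'⟩
        refine ⟨x⁻¹, Z.inv_mem hx, fun t => ?_⟩
        have := hx' (a⁻¹ t)
        rw [MulAut.apply_inv_self] at this
        rw [this]
        group }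
  have hBp : ∀ i, IsPGroup p (B i) := by
    intro i
    rintro ⟨b, z, hz, hb⟩
    obtain ⟨k, hk⟩ := hZp ⟨z, hz⟩
    refine ⟨k, Subtype.ext ?_⟩
    have hk' : z ^ p ^ k = 1 := congrArg Subtype.val hk
    have h1 : ∀ n : ℕ, ∀ t : T i, (((b ^ n) t : T i) : G) = z ^ n * t * (z ^ n)⁻¹ := by
      intro n
      induction n with
      | zero => intro t; simp
      | succ n ih =>
        intro t
        rw [pow_succ, MulAut.mul_apply, ih, hb, pow_succ]
        group
    show b ^ p ^ k = 1
    ext t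
    rw [h1, hk']
    simp
  have hTp : ∀ i, ¬ p ∣ Nat.card (T i) := fun i h => hpN (h.trans (Subgroup.card_dvd_of_le (hTN i)))
  have hα : ∀ i, ∃ χ : IrrCharacter (T i), (∃ x, (χ : T i → ℂ) x ≠ (χ : T i → ℂ) 1) ∧
      ∀ b ∈ B i, (∀ x, (χ : T i → ℂ) (b x) = (χ : T i → ℂ) x) → b = 1 := by
    intro i
    have := hsimple i
    have hcyc : IsCyclic (B i) := by
      apply hCC (T i) (hTna i) (B i)
      obtain ⟨k, hk⟩ := (IsPGroup.iff_card).1 (hBp i)
      rw [hk]
      exact Nat.Coprime.pow_left k ((Nat.Prime.coprime_iff_not_dvd hp.out).2 (hTp i))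
    exact exists_regular p (hTp i) (B i) (hBp i)
  choose α hα1 hα2 using hα
  let η : ∀ i, T i → ℂ := fun i => if r i = i then (α i : T i → ℂ) else fun _ => 1
  have hη1 : ∀ i, r i = i → η i = (α i : T i → ℂ) := fun i h => if_pos h
  have hη2 : ∀ i, r i ≠ i → η i = fun _ => 1 := fun i h => if_neg h
  have hηirr : ∀ i, IsIrrCharacter (T i) (η i) := by
    intro i
    by_cases h : r i = i
    · rw [hη1 i h]; exact (α i).2
    · rw [hη2 i h]; exact isIrr_one _
  let θ : N → ℂ := fun n => ∏ i, η i (e n i)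
  have hθ : IsIrrCharacter N θ := by
    have h1 := isIrr_piDep hηirr
    exact isIrr_comp (e : N →* (∀ i, T i)) e.surjective h1
  refine ⟨θ, hθ, fun z hz hfix => ?_⟩
  let D : Fin m → ℂ := fun i => ∏ l ∈ Finset.univ.erase i, η l 1
  have hD : ∀ i, D i ≠ 0 := fun i => Finset.prod_ne_zero_iff.2 fun l _ =>
    isIrr_apply_one_ne_zero (hηirr l)
  have hsing : ∀ (i : Fin m) (t : T i), θ (e.symm (Pi.mulSingle i t)) = η i t * D i := by
    intro i t
    show ∏ l, η l (e (e.symm (Pi.mulSingle i t)) l) = _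
    rw [← Finset.mul_prod_erase _ _ (Finset.mem_univ i)]
    congr 1
    · rw [MulEquiv.apply_symm_apply, Pi.mulSingle_eq_same]
    · refine Finset.prod_congr rfl fun l hl => ?_
      rw [MulEquiv.apply_symm_apply, Pi.mulSingle_eq_of_ne (Finset.ne_of_mem_erase hl)]
  -- conjugation of a single coordinate
  have hsc : ∀ (i j : Fin m) (hij : T j = (T i).map (MulAut.conj z).toMonoidHom) (t : T i),
      MulAut.conjNormal z (e.symm (Pi.mulSingle i t)) =
        e.symm (Pi.mulSingle j (conjIso z hij t)) := by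
    intro i j hij t
    apply Subtype.ext
    rw [he, conjIso_apply]
    rw [MulAut.conjNormal_apply, he]
  have hkey : ∀ i, r i = i → ∀ t ∈ T i, z * t * z⁻¹ = t := by
    intro i hi
    obtain ⟨j, hj⟩ := hconj z i
    have hrj : r i = r j := hr2 i j ⟨z, hz, hj⟩
    have hval : ∀ t : T i, η j (conjIso z hj t) * D j = η i t * D i := by
      intro t
      rw [← hsing, ← hsing, ← hsc]
      exact hfix _
    have hji : j = i := by
      by_contra hne
      have h1 : r j ≠ j := by
        rw [← hrj, hi]; exact fun h => hne h.symm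
      rw [hη2 j h1, hη1 i hi] at hval
      obtain ⟨x, hx⟩ := hα1 i
      apply hx
      have h2 := (hval x).symm.trans (hval 1)
      exact mul_right_cancel₀ (hD i) h2
    subst hji
    rw [hη1 j hi] at hval
    have h3 : conjIso z hj = (1 : MulAut (T j)) := by
      apply hα2 j
      · exact ⟨z, hz, fun t => conjIso_apply z hj t⟩
      · intro x
        exact mul_right_cancel₀ (hD j) (hval x)
    intro t ht
    have h4 := conjIso_apply z hj ⟨t, ht⟩
    rw [h3] at h4
    exact h4.symm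
  have hall : ∀ l, ∀ t ∈ T l, z * t * z⁻¹ = t := by
    intro l t ht
    obtain ⟨y, hy, hyl⟩ := hr1 l
    have hrr : r (r l) = r l := hr2 (r l) l ⟨y, hy, hyl⟩
    rw [hyl] at ht
    obtain ⟨u, hu, rfl⟩ := ht
    have h1 := hkey (r l) hrr u hu
    show z * (y * u * y⁻¹) * z⁻¹ = y * u * y⁻¹
    have h2 : z * y = y * z := hZ z hz y hy
    have h3 : y⁻¹ * z⁻¹ = z⁻¹ * y⁻¹ := by rw [← mul_inv_rev, ← mul_inv_rev, h2]
    calc z * (y * u * y⁻¹) * z⁻¹ = (z * y) * u * (y⁻¹ * z⁻¹) := by group
      _ = y * (z * u * z⁻¹) * y⁻¹ := by rw [h2, h3]; group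
      _ = _ := by rw [h1]
  apply hC z hz
  intro n hn
  have h5 : MulAut.conjNormal z (⟨n, hn⟩ : N) = ⟨n, hn⟩ := by
    apply e.injective
    funext l
    have hl : T l = (T l).map (MulAut.conj z).toMonoidHom := by
      apply le_antisymm
      · intro t ht
        exact ⟨t, ht, hall l t ht⟩
      · rintro _ ⟨t, ht, rfl⟩
        show z * t * z⁻¹ ∈ T l
        rw [hall l t ht]; exact ht
    apply Subtype.ext
    rw [coord_conj e hTN he hcoord z l l hl]
    exact hall l _ (e ⟨n, hn⟩ l).2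
  have h6 := congrArg Subtype.val h5
  rw [MulAut.conjNormal_apply] at h6
  have h7 : z * n * z⁻¹ = n := h6
  rw [mul_inv_eq_iff_eq_mul] at h7
  exact h7.symm

/-- The abelian case. -/
theorem exists_theta_ab {G : Type u} [Group G] [Finite G] (N : Subgroup G) [hN : N.Normal]
    (hNc : ∀ x ∈ N, ∀ y ∈ N, x * y = y * x) (p : ℕ) [hp : Fact p.Prime] (hpN : ¬ p ∣ Nat.card N)
    (Z : Subgroup G) (hZ : ∀ x ∈ Z, ∀ y ∈ Z, x * y = y * x) (hZp : IsPGroup p Z)
    (hC : ∀ z ∈ Z, (∀ n ∈ N, n * z = z * n) → z = 1) :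
    ∃ θ : N → ℂ, IsIrrCharacter N θ ∧
      ∀ z ∈ Z, (∀ n : N, θ (MulAut.conjNormal z n) = θ n) → z = 1 := by
  classical
  let _ : CommGroup N := { (inferInstance : Group N) with
    mul_comm := fun a b => Subtype.ext (hNc a a.2 b b.2) }
  let φ : Z →* MulAut N := (MulAut.conjNormal (H := N)).comp Z.subtype
  have hφ : ∀ (k : Z) (n : N), ((φ k n : N) : G) = k * n * (k : G)⁻¹ := fun k n => rfl
  have hcard : (Nat.card φ.range).Coprime (Nat.card N) := by
    have h1 : IsPGroup p φ.range := by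
      rintro ⟨_, k, rfl⟩
      obtain ⟨n, hn⟩ := hZp k
      refine ⟨n, Subtype.ext ?_⟩
      show (φ k) ^ (p ^ n) = 1
      rw [← map_pow, hn, map_one]
    obtain ⟨m, hm⟩ := (IsPGroup.iff_card).1 h1
    rw [hm]
    exact Nat.Coprime.pow_left m ((Nat.Prime.coprime_iff_not_dvd hp.out).2 hpN)
  obtain ⟨l, hl⟩ := Cfsg.Agent.H690.RegOrb.exists_char φ (fun a b => by
    congr 1
    exact Subtype.ext (hZ a a.2 b b.2)) hcard
  refine ⟨fun x => ((l x : ℂˣ) : ℂ), Cfsg.Agent.Characters.Linear.isIrrCharacter_hom l,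
    fun z hz hfix => ?_⟩
  have h1 : φ ⟨z, hz⟩ = 1 := by
    apply hl
    intro x
    apply Units.ext
    exact hfix x
  apply hC z hz
  intro n hn
  have h2 := hφ ⟨z, hz⟩ ⟨n, hn⟩
  rw [h1] at h2
  have h3 : n = z * n * z⁻¹ := h2
  rw [eq_mul_inv_iff_mul_eq] at h3
  exact h3

end Cfsg.Agent.H620.PN
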