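import Cfsg.Agent.H620.Solv

/-!
# Normality lemmas for the reduction of S4555 and S4559 (helper620)
-/

set_option autoImplicit false

namespace Cfsg.Agent.H620.PN

open Cfsg Subgroup

universe u

variable {G : Type u} [Group G]

/-- `Z(R) N` is normal if `R N` is, `R` a Sylow subgroup. -/
theorem center_sup_normal [Finite G] {r : ℕ} [hr : Fact r.Prime] (N : Subgroup G)
    [hN : N.Normal] (R : Sylow r G) (hRN : ((R : Subgroup G) ⊔ N).Normal) :
    ((Subgroup.center (R : Subgroup G)).map (R : Subgroup G).subtype ⊔ N).Normal := by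
  classical
  set Z : Subgroup G := (Subgroup.center (R : Subgroup G)).map (R : Subgroup G).subtype with hZdef
  have hZmem : ∀ x, x ∈ Z ↔ x ∈ (R : Subgroup G) ∧ ∀ y ∈ (R : Subgroup G), y * x = x * y := by
    intro x
    constructor
    · rintro ⟨w, hw, rfl⟩
      refine ⟨w.2, fun y hy => ?_⟩
      exact congrArg Subtype.val ((Subgroup.mem_center_iff.1 hw) ⟨y, hy⟩)
    · rintro ⟨h1, h2⟩
      refine ⟨⟨x, h1⟩, Subgroup.mem_center_iff.2 fun y => Subtype.ext (h2 y y.2), rfl⟩
  set K : Subgroup G := Z ⊔ N with hK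
  -- Frattini
  have hfrat : ∀ g : G, ∃ h ∈ Subgroup.normalizer ((R : Subgroup G) : Set G), ∃ n ∈ N, g = h * n := by
    intro g
    have h1 := Sylow.normalizer_sup_eq_top' R (le_sup_left : (R : Subgroup G) ≤ (R : Subgroup G) ⊔ N)
    have h2 : Subgroup.normalizer ((R : Subgroup G) : Set G) ⊔ N = ⊤ := by
      rw [eq_top_iff, ← h1]
      refine sup_le le_sup_left (sup_le ?_ le_sup_right)
      exact (Subgroup.le_normalizer).trans le_sup_left
    have hg : g ∈ Subgroup.normalizer ((R : Subgroup G) : Set G) ⊔ N := by rw [h2]; trivial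
    rw [← SetLike.mem_coe, Subgroup.mul_normal] at hg
    obtain ⟨h, hh, n, hn, e⟩ := hg
    exact ⟨h, hh, n, hn, e.symm⟩
  have key : ∀ g : G, K.map (MulAut.conj g).toMonoidHom ≤ K := by
    intro g
    rw [hK, Subgroup.map_sup]
    refine sup_le ?_ ?_
    · rintro _ ⟨x, hx, rfl⟩
      obtain ⟨h, hh, n, hn, rfl⟩ := hfrat g
      show h * n * x * (h * n)⁻¹ ∈ K
      have e1 : h * n * x * (h * n)⁻¹ =
          (h * x * h⁻¹) * ((h * (x⁻¹ * n * x) * h⁻¹) * (h * n⁻¹ * h⁻¹)) := by
        group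
      rw [e1]
      refine K.mul_mem (Subgroup.mem_sup_left ?_) (Subgroup.mem_sup_right (N.mul_mem ?_ ?_))
      · obtain ⟨hx1, hx2⟩ := (hZmem x).1 hx
        refine (hZmem _).2 ⟨(Subgroup.mem_normalizer_iff.1 hh x).1 hx1, fun y hy => ?_⟩
        have hy' : h⁻¹ * y * h ∈ (R : Subgroup G) := by
          have := (Subgroup.mem_normalizer_iff.1 hh (h⁻¹ * y * h)).2
          apply this
          convert hy using 1
          group
        have := hx2 _ hy'
        calc y * (h * x * h⁻¹) = h * ((h⁻¹ * y * h) * x) * h⁻¹ := by group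
          _ = h * (x * (h⁻¹ * y * h)) * h⁻¹ := by rw [this]
          _ = h * x * h⁻¹ * y := by group
      · apply hN.conj_mem
        have := hN.conj_mem n hn x⁻¹
        simpa using this
      · exact hN.conj_mem _ (N.inv_mem hn) h
    · rintro _ ⟨x, hx, rfl⟩
      exact Subgroup.mem_sup_right (hN.conj_mem x hx g)
  constructor
  intro x hx g
  exact key g ⟨x, hx, rfl⟩

/-- If `E N` is normal, `E` a `p`-group, `N` a normal `p'`-subgroup that is abelian or has trivial
centre, and there is no nontrivial normal `p`-subgroup, then `C_E(N) = 1`. -/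
theorem inf_centralizer [Finite G] {r : ℕ} [hr : Fact r.Prime] (N : Subgroup G)
    [hN : N.Normal] (hNr : (Nat.card N).Coprime r) (E : Subgroup G) (hE : IsPGroup r E)
    (hEN : (E ⊔ N).Normal)
    (hN' : (∀ a ∈ N, ∀ b ∈ N, a * b = b * a) ∨ N ⊓ Subgroup.centralizer (N : Set G) = ⊥)
    (hcore : ∀ K : Subgroup G, K.Normal → IsPGroup r K → K = ⊥) :
    ∀ z ∈ E, (∀ n ∈ N, n * z = z * n) → z = 1 := by
  classical
  let C : Subgroup G := Subgroup.centralizer (N : Set G)
  have hCn : C.Normal := inferInstance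
  have hCmem : ∀ x, x ∈ C ↔ ∀ n ∈ N, n * x = x * n := fun x => Subgroup.mem_centralizer_iff
  have hRo : ∀ x ∈ E, ∃ m, orderOf x = r ^ m := by
    intro x hx
    obtain ⟨m, hm⟩ := (IsPGroup.iff_orderOf.1 hE) ⟨x, hx⟩
    exact ⟨m, by rw [← hm, Subgroup.orderOf_mk]⟩
  intro z hz hzn
  rcases hN' with hNc | hNz
  · have hNC : N ≤ C := fun x hx => (hCmem x).2 fun n hn => hNc n hn x hx
    have hD : E ⊓ C = ⊥ := by
      apply hcore
      · constructor
        intro d hd g
        obtain ⟨hd1, hd2⟩ := Subgroup.mem_inf.1 hd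
        have h1 : g * d * g⁻¹ ∈ E ⊔ N :=
          hEN.conj_mem d (Subgroup.mem_sup_left hd1) g
        rw [← SetLike.mem_coe, Subgroup.mul_normal] at h1
        obtain ⟨y, hy, n, hn, hyn⟩ := h1
        have h2 : g * d * g⁻¹ ∈ C := hCn.conj_mem d hd2 g
        have hyn' : y * n = g * d * g⁻¹ := hyn
        have h3 : y ∈ C := by
          have : y = (g * d * g⁻¹) * n⁻¹ := by rw [← hyn']; group
          rw [this]
          exact C.mul_mem h2 (C.inv_mem (hNC hn))
        obtain ⟨m, hm⟩ := hRo d hd1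
        obtain ⟨k, hk⟩ := hRo y hy
        have hcomm : Commute y n := ((hCmem y).1 h3 n hn).symm
        have h4 : n ^ (r ^ (m + k)) = 1 := by
          have e1 : (y * n) ^ (r ^ (m + k)) = 1 := by
            rw [hyn', conj_pow, pow_add, pow_mul, ← hm, pow_orderOf_eq_one, one_pow, mul_one,
              mul_inv_cancel]
          have e2 : y ^ (r ^ (m + k)) = 1 := by
            rw [add_comm, pow_add, pow_mul, ← hk, pow_orderOf_eq_one, one_pow]
          rw [hcomm.mul_pow, e2, one_mul] at e1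
          exact e1
        have h5 : n = 1 := by
          have h6 : (orderOf n).Coprime (r ^ (m + k)) :=
            Nat.Coprime.pow_right _
              (Nat.Coprime.coprime_dvd_left (Subgroup.orderOf_dvd_natCard N hn) hNr)
          exact orderOf_eq_one_iff.1
            (Nat.Coprime.eq_one_of_dvd h6 (orderOf_dvd_of_pow_eq_one h4))
        rw [← hyn', h5, mul_one]
        exact Subgroup.mem_inf.2 ⟨hy, h3⟩
      · exact hE.to_le inf_le_left
    have h1 : z ∈ E ⊓ C := Subgroup.mem_inf.2 ⟨hz, (hCmem z).2 hzn⟩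
    rw [hD] at h1
    exact Subgroup.mem_bot.1 h1
  · -- `C ⊓ (E ⊔ N)` is a normal `r`-subgroup
    have hD : C ⊓ (E ⊔ N) = ⊥ := by
      apply hcore
      · exact Subgroup.normal_inf_normal _ _
      · rintro ⟨d, hd⟩
        obtain ⟨hd1, hd2⟩ := Subgroup.mem_inf.1 hd
        have h1 := hd2
        rw [← SetLike.mem_coe, Subgroup.mul_normal] at h1
        obtain ⟨y, hy, n, hn, hyn⟩ := h1
        have hyn' : y * n = d := hyn
        obtain ⟨k, hk⟩ := hRo y hy
        refine ⟨k, Subtype.ext ?_⟩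
        show d ^ r ^ k = 1
        have h2 : d ^ r ^ k ∈ N := by
          rw [← QuotientGroup.eq_one_iff, QuotientGroup.mk_pow, ← hyn', QuotientGroup.mk_mul,
            (QuotientGroup.eq_one_iff n).2 hn, mul_one, ← QuotientGroup.mk_pow, ← hk,
            pow_orderOf_eq_one, QuotientGroup.mk_one]
        have h3 : d ^ r ^ k ∈ N ⊓ C := Subgroup.mem_inf.2 ⟨h2, C.pow_mem hd1 _⟩
        have h4 : N ⊓ C = ⊥ := hNz
        rw [h4] at h3
        exact Subgroup.mem_bot.1 h3
    have h1 : z ∈ C ⊓ (E ⊔ N) :=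
      Subgroup.mem_inf.2 ⟨(hCmem z).2 hzn, Subgroup.mem_sup_left hz⟩
    rw [hD] at h1
    exact Subgroup.mem_bot.1 h1

/-- A minimal normal subgroup that is not abelian has trivial centre. -/
theorem inf_centralizer_eq_bot (N : Subgroup G) [hN : N.Normal]
    (hmin : ∀ M : Subgroup G, M.Normal → M ≤ N → M = ⊥ ∨ M = N)
    (hna : ¬ ∀ x ∈ N, ∀ y ∈ N, Commute x y) : N ⊓ Subgroup.centralizer (N : Set G) = ⊥ := by
  rcases hmin (N ⊓ Subgroup.centralizer (N : Set G)) (Subgroup.normal_inf_normal _ _) inf_le_left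
    with h | h
  · exact h
  · exfalso
    apply hna
    intro x hx y hy
    have h1 : y ∈ N ⊓ Subgroup.centralizer (N : Set G) := by rw [h]; exact hy
    exact Subgroup.mem_centralizer_iff.1 (Subgroup.mem_inf.1 h1).2 x hx

/-- Existence of minimal normal subgroups below a given one. -/
theorem exists_min_le [Finite G] (M : Subgroup G) (hM : M.Normal) (hM1 : M ≠ ⊥) :
    ∃ N : Subgroup G, N.Normal ∧ N ≠ ⊥ ∧ N ≤ M ∧
      ∀ L : Subgroup G, L.Normal → L ≤ N → L = ⊥ ∨ L = N := by
  have hfin : {T : Subgroup G | T.Normal ∧ T ≠ ⊥ ∧ T ≤ M}.Finite := Set.toFinite _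
  have hne : {T : Subgroup G | T.Normal ∧ T ≠ ⊥ ∧ T ≤ M}.Nonempty := ⟨M, hM, hM1, le_rfl⟩
  obtain ⟨T, ⟨hT0, hTn, hTM⟩, hTmin⟩ := hfin.exists_minimal hne
  refine ⟨T, hT0, hTn, hTM, fun S hS hST => ?_⟩
  by_cases hS0 : S = ⊥
  · exact Or.inl hS0
  · exact Or.inr (le_antisymm hST (hTmin ⟨hS, hS0, hST.trans hTM⟩ hST))

end Cfsg.Agent.H620.PN
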